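import Mathlib

namespace Groth.Agent.Lib.Helper39.DeltaBC

open TensorProduct IsLocalRing

section Length
variable {A B : Type*} [CommRing A] [CommRing B] [IsLocalRing A] [IsLocalRing B] [Algebra A B]
  [Module.Flat A B]

omit [Module.Flat A B] in
theorem length_baseChange_simple
    (hm : (maximalIdeal A).map (algebraMap A B) = maximalIdeal B)
    {M : Type*} [AddCommGroup M] [Module A M] [IsSimpleModule A M] :
    Module.length B (B ⊗[A] M) = 1 := by
  obtain ⟨I, hI, ⟨e⟩⟩ := isSimpleModule_iff_quot_maximal.mp (inferInstance : IsSimpleModule A M)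
  have hI' : I = maximalIdeal A := IsLocalRing.eq_maximalIdeal hI
  subst hI'
  have e1 : B ⊗[A] M ≃ₗ[B] B ⊗[A] (A ⧸ maximalIdeal A) :=
    TensorProduct.AlgebraTensorModule.congr (LinearEquiv.refl B B) e
  have e2 : (B ⧸ (maximalIdeal A).map (algebraMap A B)) ≃ₗ[B] B ⊗[A] (A ⧸ maximalIdeal A) :=
    (Algebra.TensorProduct.quotIdealMapEquivTensorQuot B (maximalIdeal A)).toLinearEquiv
  rw [e1.length_eq, ← e2.length_eq, hm, Module.length_eq_one_iff]
  exact isSimpleModule_iff_isCoatom.mpr (Ideal.isMaximal_def.mp inferInstance)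

theorem length_baseChange_of_isFiniteLength
    (hm : (maximalIdeal A).map (algebraMap A B) = maximalIdeal B)
    {M : Type*} [AddCommGroup M] [Module A M] (hM : IsFiniteLength A M) :
    Module.length B (B ⊗[A] M) = Module.length A M := by
  induction hM with
  | of_subsingleton =>
    rw [Module.length_eq_zero_iff.mpr inferInstance, Module.length_eq_zero_iff.mpr inferInstance]
  | @of_simple_quotient M _ _ N _ _ ih =>
    have h1 : Module.length A M = Module.length A N + Module.length A (M ⧸ N) :=
      Module.length_eq_add_of_exact N.subtype N.mkQ (Submodule.subtype_injective _)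
        (Submodule.mkQ_surjective _) (LinearMap.exact_subtype_mkQ N)
    have hinj : Function.Injective (N.subtype.baseChange B) :=
      Module.Flat.lTensor_preserves_injective_linearMap _ (Submodule.subtype_injective _)
    have hsurj : Function.Surjective (N.mkQ.baseChange B) :=
      LinearMap.lTensor_surjective _ (Submodule.mkQ_surjective _)
    have hex : Function.Exact (N.subtype.baseChange B) (N.mkQ.baseChange B) :=
      lTensor_exact B (LinearMap.exact_subtype_mkQ N) (Submodule.mkQ_surjective _)
    have h2 := Module.length_eq_add_of_exact (N.subtype.baseChange B) (N.mkQ.baseChange B)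
      hinj hsurj hex
    rw [h2, ih, length_baseChange_simple hm (M := M ⧸ N), h1,
      Module.length_eq_one_iff.mpr (inferInstance : IsSimpleModule A (M ⧸ N))]

end Length



open IsLocalRing

section L4
variable {R : Type*} [CommRing R] [IsLocalRing R] [IsNoetherianRing R]

/-- every nonzero element is a unit times a power of the generator of the maximal ideal -/
theorem exists_eq_pow_mul_unit (π : R) (hπ : maximalIdeal R = Ideal.span {π}) (x : R) (hx : x ≠ 0) :
    ∃ (k : ℕ) (u : R), IsUnit u ∧ x = π ^ k * u := by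
  classical
  have hinf : ⨅ i : ℕ, (maximalIdeal R) ^ i = ⊥ :=
    Ideal.iInf_pow_eq_bot_of_isLocalRing _ (Ideal.IsPrime.ne_top inferInstance)
  have hex : ∃ k : ℕ, x ∉ (maximalIdeal R) ^ k := by
    by_contra hcon
    push Not at hcon
    have : x ∈ ⨅ i : ℕ, (maximalIdeal R) ^ i := by
      rw [Ideal.mem_iInf]; exact hcon
    rw [hinf, Ideal.mem_bot] at this
    exact hx this
  let k := Nat.find hex
  have hk : x ∉ (maximalIdeal R) ^ k := Nat.find_spec hex
  have hk0 : k ≠ 0 := by
    intro h0
    rw [h0, pow_zero, Ideal.one_eq_top] at hk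
    exact hk trivial
  obtain ⟨l, hl⟩ := Nat.exists_eq_succ_of_ne_zero hk0
  have hl' : x ∈ (maximalIdeal R) ^ l := by
    by_contra hnot
    have := Nat.find_min' hex hnot
    omega
  rw [hπ, Ideal.span_singleton_pow, Ideal.mem_span_singleton] at hl'
  obtain ⟨u, rfl⟩ := hl'
  refine ⟨l, u, ?_, rfl⟩
  by_contra hu
  have hu' : u ∈ maximalIdeal R := (mem_maximalIdeal u).mpr hu
  rw [hπ, Ideal.mem_span_singleton] at hu'
  obtain ⟨v, rfl⟩ := hu'
  apply hk
  rw [hl, hπ, Ideal.span_singleton_pow, Ideal.mem_span_singleton]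
  exact ⟨v, by rw [pow_succ]; ring⟩

theorem isDomain_of_maximalIdeal_eq_span (π : R) (hπ : maximalIdeal R = Ideal.span {π})
    (hnzd : π ∈ nonZeroDivisors R) : IsDomain R := by
  have : NoZeroDivisors R := by
    refine ⟨fun {x y} hxy => ?_⟩
    by_contra hcon
    push Not at hcon
    obtain ⟨k, u, hu, rfl⟩ := exists_eq_pow_mul_unit π hπ x hcon.1
    obtain ⟨l, v, hv, rfl⟩ := exists_eq_pow_mul_unit π hπ y hcon.2
    have h1 : π ^ (k + l) * (u * v) = 0 := by rw [← hxy]; ring
    have h2 : π ^ (k + l) = 0 := (hu.mul hv).mul_left_eq_zero.mp h1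
    exact nonZeroDivisors.ne_zero (pow_mem hnzd (k + l)) h2
  exact NoZeroDivisors.to_isDomain R

theorem isIntegrallyClosed_of_maximalIdeal_eq_span (π : R) (hπ : maximalIdeal R = Ideal.span {π})
    (hnzd : π ∈ nonZeroDivisors R) :
    ∃ _ : IsDomain R, IsIntegrallyClosed R := by
  have hdom := isDomain_of_maximalIdeal_eq_span π hπ hnzd
  refine ⟨hdom, ?_⟩
  have hprin : (maximalIdeal R).IsPrincipal := ⟨⟨π, by rw [hπ]⟩⟩
  have := ((tfae_of_isNoetherianRing_of_isLocalRing_of_isDomain R).out 4 3).mp hprin
  exact this.1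

end L4



open IsLocalRing

section MinPrime
variable {C : Type*} [CommRing C]

/-- If `n` is a minimal prime over the radical ideal `J`, every element of `n` is killed modulo
`J` by an element outside `n`. -/
theorem exists_mul_mem_of_mem_minimalPrimes (J n : Ideal C) (hJ : J.IsRadical)
    (hn : n ∈ J.minimalPrimes) (y : C) (hy : y ∈ n) : ∃ u, u ∉ n ∧ u * y ∈ J := by
  have hnp : n.IsPrime := hn.1.1
  -- the multiplicative set generated by the complement of `n` and `y`
  let T : Submonoid C := n.primeCompl ⊔ Submonoid.powers y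
  by_contra hcon
  push Not at hcon
  have hdisj : Disjoint (J : Set C) (T : Set C) := by
    rw [Set.disjoint_left]
    intro z hzJ hzT
    obtain ⟨u, hu, w, ⟨k, rfl⟩, rfl⟩ := Submonoid.mem_sup.mp hzT
    -- u * y^k ∈ J
    have h1 : (u * y) ^ (k + 1) ∈ J := by
      have : (u * y) ^ (k + 1) = (u * y ^ k) * (u ^ k * y) := by ring
      rw [this]
      exact J.mul_mem_right _ hzJ
    exact hcon u hu (hJ ⟨k + 1, h1⟩)
  obtain ⟨q, hq, hJq, hqT⟩ := Ideal.exists_le_prime_disjoint J T hdisj
  have hqn : q ≤ n := by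
    intro z hz
    by_contra hzn
    exact Set.disjoint_left.mp hqT hz (SetLike.le_def.mp le_sup_left hzn)
  have hnq : n ≤ q := hn.2 ⟨hq, hJq⟩ hqn
  have hyq : y ∈ q := hnq hy
  exact Set.disjoint_left.mp hqT hyq
    (SetLike.le_def.mp le_sup_right (Submonoid.mem_powers y))

end MinPrime


end Groth.Agent.Lib.Helper39.DeltaBC
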