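import Mathlib
import Groth.Agent.Lib.Helper39.DeltaBC.Basic

namespace Groth.Agent.Lib.Helper39.DeltaBC


open IsLocalRing

section L2
variable {A' C : Type*} [CommRing A'] [CommRing C] [Algebra A' C]
    [Module.Flat A' C] [IsNoetherianRing C]

theorem normal_localization_of_flat_over_dvr
    (m' : Ideal A') [m'.IsPrime] (n : Ideal C) [n.IsPrime] [n.LiesOver m']
    [IsDomain (Localization.AtPrime m')] [IsDiscreteValuationRing (Localization.AtPrime m')]
    (hJ : (m'.map (algebraMap A' C)).IsRadical)
    (hn : n ∈ (m'.map (algebraMap A' C)).minimalPrimes) :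
    ∃ _ : IsDomain (Localization.AtPrime n), IsIntegrallyClosed (Localization.AtPrime n) := by
  let _ := Localization.AtPrime.algebraOfLiesOver m' n
  have hflat : Module.Flat (Localization.AtPrime m') (Localization.AtPrime n) := inferInstance
  have hNoeth : IsNoetherianRing (Localization.AtPrime n) :=
    IsLocalization.isNoetherianRing n.primeCompl _ inferInstance
  obtain ⟨ϖ, hϖ⟩ := IsDiscreteValuationRing.exists_irreducible (Localization.AtPrime m')
  have hmS : maximalIdeal (Localization.AtPrime m') = Ideal.span {ϖ} :=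
    (IsDiscreteValuationRing.irreducible_iff_uniformizer ϖ).mp hϖ
  have hϖnzd : ϖ ∈ nonZeroDivisors (Localization.AtPrime m') :=
    mem_nonZeroDivisors_of_ne_zero hϖ.ne_zero
  set π := algebraMap (Localization.AtPrime m') (Localization.AtPrime n) ϖ with hπdef
  have hπnzd : π ∈ nonZeroDivisors (Localization.AtPrime n) := by
    have h1 : IsSMulRegular (Localization.AtPrime n) ϖ :=
      Module.Flat.isSMulRegular_of_nonZeroDivisors hϖnzd
    rw [mem_nonZeroDivisors_iff_right]
    intro z hz
    apply h1.right_eq_zero_of_smul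
    rw [Algebra.smul_def, mul_comm]
    exact hz
  -- the ideal computation
  have hmap : (m'.map (algebraMap A' C)).map (algebraMap C (Localization.AtPrime n)) =
      Ideal.span {π} := by
    rw [Ideal.map_map, ← IsScalarTower.algebraMap_eq,
      IsScalarTower.algebraMap_eq A' (Localization.AtPrime m') (Localization.AtPrime n),
      ← Ideal.map_map, Localization.AtPrime.map_eq_maximalIdeal, hmS, Ideal.map_span,
      Set.image_singleton]
  have hmax : maximalIdeal (Localization.AtPrime n) = Ideal.span {π} := by
    apply le_antisymm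
    · rw [← Localization.AtPrime.map_eq_maximalIdeal, Ideal.map_le_iff_le_comap]
      intro y hy
      obtain ⟨u, hu, huy⟩ := exists_mul_mem_of_mem_minimalPrimes _ n hJ hn y hy
      rw [Ideal.mem_comap]
      have h1 : algebraMap C (Localization.AtPrime n) (u * y) ∈ Ideal.span {π} := by
        rw [← hmap]; exact Ideal.mem_map_of_mem _ huy
      have hunit : IsUnit (algebraMap C (Localization.AtPrime n) u) :=
        IsLocalization.map_units (Localization.AtPrime n) (⟨u, hu⟩ : n.primeCompl)
      rw [map_mul] at h1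
      exact (Ideal.unit_mul_mem_iff_mem _ hunit).mp h1
    · rw [← hmap, ← Localization.AtPrime.map_eq_maximalIdeal]
      exact Ideal.map_mono hn.1.2
  exact isIntegrallyClosed_of_maximalIdeal_eq_span π hmax hπnzd

end L2



open IsLocalRing Polynomial

section L3
variable {C : Type*} [CommRing C]

theorem dvd_of_eval_scaleRoots_eq_zero
    (hC : ∀ (n : Ideal C) [n.IsMaximal], ∃ _ : IsDomain (Localization.AtPrime n),
      IsIntegrallyClosed (Localization.AtPrime n))
    (x σ : C) (hσ : σ ∈ nonZeroDivisors C) (p : Polynomial C) (hp : p.Monic)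
    (h : Polynomial.eval x (Polynomial.scaleRoots p σ) = 0) : σ ∣ x := by
  let I : Ideal C := Submodule.comap (LinearMap.mulRight C x) (Ideal.span {σ})
  have hI : ∀ w, w ∈ I ↔ σ ∣ w * x := by
    intro w
    show (LinearMap.mulRight C x) w ∈ Ideal.span {σ} ↔ _
    rw [LinearMap.mulRight_apply, Ideal.mem_span_singleton]
  suffices h1 : (1 : C) ∈ I by
    have := (hI 1).mp h1
    rwa [one_mul] at this
  by_contra hone
  have hne : I ≠ ⊤ := fun htop => hone (htop ▸ Submodule.mem_top)
  obtain ⟨n, hn, hIn⟩ := Ideal.exists_le_maximal I hne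
  obtain ⟨hdom, hic⟩ := hC n
  set R := Localization.AtPrime n with hR
  set K := FractionRing R with hK
  let g : C →+* R := algebraMap C R
  let f : C →+* K := (algebraMap R K).comp g
  -- σ maps to a nonzero element
  have hgσ : g σ ≠ 0 := by
    intro h0
    rw [IsLocalization.map_eq_zero_iff n.primeCompl] at h0
    obtain ⟨⟨v, hv⟩, hvσ⟩ := h0
    have : v = 0 := (mem_nonZeroDivisors_iff_right.mp hσ) v hvσ
    exact hv (this ▸ zero_mem n)
  have hfσ : f σ ≠ 0 := by
    intro h0
    exact hgσ ((map_eq_zero_iff _ (IsFractionRing.injective R K)).mp h0)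
  -- τ = x/σ is integral over R
  have hτ : Polynomial.eval₂ f (f x / f σ) p = 0 := by
    have h2 := Polynomial.scaleRoots_eval₂_mul (p := p) f (f x / f σ) σ
    rw [mul_div_cancel₀ _ hfσ, Polynomial.eval₂_at_apply, h, map_zero] at h2
    exact (mul_eq_zero.mp h2.symm).resolve_left (pow_ne_zero _ hfσ)
  have hint : IsIntegral R (f x / f σ) := by
    refine ⟨p.map g, hp.map g, ?_⟩
    rw [Polynomial.eval₂_map]
    exact hτ
  obtain ⟨r, hr⟩ := IsIntegrallyClosed.isIntegral_iff.mp hint
  have hr' : r * g σ = g x := by
    apply IsFractionRing.injective R K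
    rw [map_mul, hr]
    exact div_mul_cancel₀ _ hfσ
  obtain ⟨y, u, rfl⟩ := IsLocalization.exists_mk'_eq n.primeCompl r
  have h3 : g (y * σ) = g (x * u) := by
    rw [map_mul, map_mul, ← hr', mul_assoc, mul_comm (g σ), ← mul_assoc,
      IsLocalization.mk'_spec, mul_comm]
  obtain ⟨v, hv⟩ := (IsLocalization.eq_iff_exists n.primeCompl R).mp h3
  have hvu : (v : C) * u ∈ I := by
    rw [hI]
    refine ⟨v * y, ?_⟩
    have : (v : C) * u * x = v * (x * u) := by ring
    rw [this, ← hv]; ring
  have : (v : C) * u ∈ n := hIn hvu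
  exact (n.primeCompl.mul_mem v.2 u.2) this

end L3


end Groth.Agent.Lib.Helper39.DeltaBC
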