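import Mathlib
import Groth.Agent.Lib.Helper39.DeltaBC.Basic
import Groth.Agent.Lib.Helper39.DeltaBC.Normal

namespace Groth.Agent.Lib.Helper39.DeltaBC

open TensorProduct IsLocalRing
attribute [local instance] Algebra.TensorProduct.rightAlgebra

section Assembly
variable {A B A' : Type*} [CommRing A] [CommRing B] [CommRing A'] [Algebra A B] [Algebra A A']

theorem smul_mem_range (c : A) (hc : ∀ y : A', ∃ a : A, algebraMap A A' a = c • y)
    (z : B ⊗[A] A') : ∃ b : B, algebraMap B (B ⊗[A] A') b = c • z := by
  induction z using TensorProduct.induction_on with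
  | zero => exact ⟨0, by simp⟩
  | tmul b y =>
    obtain ⟨a, ha⟩ := hc y
    refine ⟨a • b, ?_⟩
    rw [Algebra.TensorProduct.algebraMap_apply, Algebra.algebraMap_self_apply,
      TensorProduct.smul_tmul, ← TensorProduct.tmul_smul, ← ha, Algebra.algebraMap_eq_smul_one]
  | add z w hz hw =>
    obtain ⟨b1, h1⟩ := hz
    obtain ⟨b2, h2⟩ := hw
    exact ⟨b1 + b2, by rw [map_add, h1, h2, smul_add]⟩

theorem range_baseChange_linearMap :
    LinearMap.range ((Algebra.linearMap A A').baseChange B) =
      LinearMap.range (Algebra.linearMap B (B ⊗[A] A')) := by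
  apply le_antisymm
  · rintro _ ⟨w, rfl⟩
    induction w using TensorProduct.induction_on with
    | zero => simp
    | tmul b a =>
      refine ⟨a • b, ?_⟩
      rw [LinearMap.baseChange_tmul, Algebra.linearMap_apply, Algebra.linearMap_apply,
        Algebra.TensorProduct.algebraMap_apply, Algebra.algebraMap_self_apply,
        TensorProduct.smul_tmul, Algebra.algebraMap_eq_smul_one]
    | add z w hz hw =>
      rw [map_add]
      exact Submodule.add_mem _ hz hw
  · rintro _ ⟨b, rfl⟩
    refine ⟨b ⊗ₜ 1, ?_⟩
    rw [LinearMap.baseChange_tmul, Algebra.linearMap_apply, Algebra.linearMap_apply, map_one,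
      Algebra.TensorProduct.algebraMap_apply, Algebra.algebraMap_self_apply]

theorem length_quot_range_eq [IsLocalRing A] [IsLocalRing B] [Module.Flat A B]
    (hm : (maximalIdeal A).map (algebraMap A B) = maximalIdeal B)
    (hfl : IsFiniteLength A (A' ⧸ LinearMap.range (Algebra.linearMap A A'))) :
    Module.length B ((B ⊗[A] A') ⧸ LinearMap.range (Algebra.linearMap B (B ⊗[A] A'))) =
      Module.length A (A' ⧸ LinearMap.range (Algebra.linearMap A A')) := by
  set R0 := LinearMap.range (Algebra.linearMap A A') with hR0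
  let g : B ⊗[A] A' →ₗ[B] B ⊗[A] (A' ⧸ R0) := R0.mkQ.baseChange B
  have hgs : Function.Surjective g :=
    LinearMap.lTensor_surjective _ (Submodule.mkQ_surjective _)
  have hex : Function.Exact ((Algebra.linearMap A A').baseChange B) g :=
    lTensor_exact B (LinearMap.exact_map_mkQ_range (Algebra.linearMap A A'))
      (Submodule.mkQ_surjective _)
  have hker : LinearMap.ker g = LinearMap.range (Algebra.linearMap B (B ⊗[A] A')) := by
    rw [← range_baseChange_linearMap]
    exact LinearMap.exact_iff.mp hex
  rw [← hker, (LinearMap.quotKerEquivOfSurjective g hgs).length_eq,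
    length_baseChange_of_isFiniteLength hm hfl]

theorem comap_maximalIdeal_of_map_eq [IsLocalRing A] [IsLocalRing B]
    (hm : (maximalIdeal A).map (algebraMap A B) = maximalIdeal B) :
    (maximalIdeal B).comap (algebraMap A B) = maximalIdeal A := by
  apply le_antisymm
  · apply IsLocalRing.le_maximalIdeal
    exact (Ideal.comap_isPrime (algebraMap A B) (maximalIdeal B)).ne_top
  · rw [← Ideal.map_le_iff_le_comap, hm]

theorem normal_localization_tensor [IsLocalRing A] [IsLocalRing B] [Module.Flat A B]
    [IsNoetherianRing B] [Module.Finite A A']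
    (hm : (maximalIdeal A).map (algebraMap A B) = maximalIdeal B)
    (hdvr : ∀ (m' : Ideal A') [m'.IsMaximal], ∃ _ : IsDomain (Localization.AtPrime m'),
      IsDiscreteValuationRing (Localization.AtPrime m'))
    (hred : ∀ (m' : Ideal A') [m'.IsMaximal], IsReduced (B ⊗[A] (A' ⧸ m')))
    (n : Ideal (B ⊗[A] A')) [hnmax : n.IsMaximal] :
    ∃ _ : IsDomain (Localization.AtPrime n), IsIntegrallyClosed (Localization.AtPrime n) := by
  have hintB : Algebra.IsIntegral B (B ⊗[A] A') := inferInstance
  have hintA : Algebra.IsIntegral A A' := inferInstance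
  have hnB : n.comap (algebraMap B (B ⊗[A] A')) = maximalIdeal B :=
    IsLocalRing.eq_maximalIdeal (Ideal.isMaximal_comap_of_isIntegral_of_isMaximal (R := B) n)
  set m' : Ideal A' := n.comap (algebraMap A' (B ⊗[A] A')) with hm'
  have hm'prime : m'.IsPrime := Ideal.comap_isPrime _ _
  have hm'A : m'.comap (algebraMap A A') = maximalIdeal A := by
    rw [hm', Ideal.comap_comap, ← IsScalarTower.algebraMap_eq,
      IsScalarTower.algebraMap_eq A B (B ⊗[A] A'), ← Ideal.comap_comap, hnB,
      comap_maximalIdeal_of_map_eq hm]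
  have hm'max : m'.IsMaximal := by
    apply Ideal.isMaximal_of_isIntegral_of_isMaximal_comap (R := A) m'
    rw [hm'A]; infer_instance
  have hflat : Module.Flat A' (B ⊗[A] A') :=
    Module.Flat.isBaseChange A A' B (B ⊗[A] A')
      (inferInstance : Algebra.IsPushout A A' B (B ⊗[A] A')).out
  have hNoeth : IsNoetherianRing (B ⊗[A] A') := IsNoetherianRing.of_finite B _
  have hlo : n.LiesOver m' := ⟨rfl⟩
  obtain ⟨hdom, hdv⟩ := hdvr m'
  have hJ : (m'.map (algebraMap A' (B ⊗[A] A'))).IsRadical := by
    have h1 := hred m'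
    have e := Algebra.TensorProduct.tensorQuotientEquiv (R := A) B A' B m'
    have h2 : IsReduced ((B ⊗[A] A') ⧸ m'.map (Algebra.TensorProduct.includeRight (A := B) (R := A))) :=
      isReduced_of_injective e.symm.toRingEquiv.toRingHom e.symm.injective
    exact (Ideal.isRadical_iff_quotient_reduced _).mpr h2
  have hn : n ∈ (m'.map (algebraMap A' (B ⊗[A] A'))).minimalPrimes := by
    refine ⟨⟨hnmax.isPrime, Ideal.map_le_iff_le_comap.mpr le_rfl⟩, ?_⟩
    rintro q ⟨hq, hJq⟩ hqn
    have hqB : q.comap (algebraMap B (B ⊗[A] A')) = maximalIdeal B := by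
      symm
      apply (maximalIdeal.isMaximal B).eq_of_le (Ideal.comap_isPrime _ _).ne_top
      rw [← hm, Ideal.map_le_iff_le_comap]
      intro a ha
      rw [Ideal.mem_comap, Ideal.mem_comap, ← IsScalarTower.algebraMap_apply,
        IsScalarTower.algebraMap_apply A A' (B ⊗[A] A')]
      apply hJq
      apply Ideal.mem_map_of_mem
      rw [← Ideal.mem_comap, hm'A]
      exact ha
    have hqmax : q.IsMaximal := by
      apply Ideal.isMaximal_of_isIntegral_of_isMaximal_comap (R := B) q
      rw [hqB]; infer_instance
    exact (hqmax.eq_of_le hnmax.ne_top hqn).ge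
  exact normal_localization_of_flat_over_dvr m' n hJ hn

theorem length_integralClosure_quot_eq [IsLocalRing A] [IsLocalRing B] [Module.Flat A B]
    [IsNoetherianRing B] [Module.Finite A A']
    (hm : (maximalIdeal A).map (algebraMap A B) = maximalIdeal B)
    (hdvr : ∀ (m' : Ideal A') [m'.IsMaximal], ∃ _ : IsDomain (Localization.AtPrime m'),
      IsDiscreteValuationRing (Localization.AtPrime m'))
    (hred : ∀ (m' : Ideal A') [m'.IsMaximal], IsReduced (B ⊗[A] (A' ⧸ m')))
    (c : A) (hcreg : IsSMulRegular A' c) (hc : ∀ y : A', ∃ a : A, algebraMap A A' a = c • y)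
    (hfl : IsFiniteLength A (A' ⧸ LinearMap.range (Algebra.linearMap A A')))
    (T : Type*) [CommRing T] [Algebra B T] [IsLocalization (nonZeroDivisors B) T]
    [Algebra A T] [IsScalarTower A B T] (ψ : A' →ₐ[A] T) :
    Module.length B (integralClosure B T ⧸
        LinearMap.range (Algebra.linearMap B (integralClosure B T))) =
      Module.length A (A' ⧸ LinearMap.range (Algebra.linearMap A A')) := by
  classical
  let j : B ⊗[A] A' →ₐ[B] T :=
    Algebra.TensorProduct.lift (Algebra.ofId B T) ψ (fun _ _ => Commute.all _ _)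
  have hfinj : Function.Injective (algebraMap B T) := IsLocalization.injective T (le_refl _)
  have hjinj : Function.Injective j := by
    rw [injective_iff_map_eq_zero]
    intro z hz
    obtain ⟨b₀, hb₀⟩ := smul_mem_range (B := B) c hc z
    have h1 : algebraMap B T b₀ = 0 := by
      have := congrArg j hb₀
      rw [AlgHom.commutes, ← algebraMap_smul B c z, map_smul, hz, smul_zero] at this
      exact this
    have h2 : b₀ = 0 := hfinj (by rw [h1, map_zero])
    rw [h2, map_zero] at hb₀
    exact (hcreg.lTensor B).right_eq_zero_of_smul hb₀.symm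
  have hιinj : Function.Injective (algebraMap B (B ⊗[A] A')) := by
    intro x y hxy
    apply hfinj
    rw [← j.commutes x, ← j.commutes y, hxy]
  have hnontriv : Nontrivial (B ⊗[A] A') := hιinj.nontrivial
  have himg : ∀ z : B ⊗[A] A', j z ∈ integralClosure B T := by
    intro z
    exact (Algebra.IsIntegral.isIntegral (R := B) z).map j
  have hC := fun (n : Ideal (B ⊗[A] A')) (hn : n.IsMaximal) =>
    normal_localization_tensor hm hdvr hred n
  have hsurj : ∀ t ∈ integralClosure B T, ∃ z : B ⊗[A] A', j z = t := by
    intro t ht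
    obtain ⟨⟨b, s⟩, hbs⟩ := IsLocalization.surj (nonZeroDivisors B) t
    obtain ⟨p, hp, hpt⟩ := ht
    have hsunit : IsUnit (algebraMap B T s) := IsLocalization.map_units T s
    have h1 : Polynomial.eval b (Polynomial.scaleRoots p (s : B)) = 0 := by
      apply hfinj
      have h2 := Polynomial.scaleRoots_eval₂_mul (p := p) (algebraMap B T) t (s : B)
      rw [hpt, mul_zero, mul_comm, hbs, Polynomial.eval₂_at_apply] at h2
      rw [h2, map_zero]
    have h3 : Polynomial.eval (algebraMap B (B ⊗[A] A') b)
        (Polynomial.scaleRoots (p.map (algebraMap B (B ⊗[A] A')))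
          (algebraMap B (B ⊗[A] A') (s : B))) = 0 := by
      rw [← Polynomial.map_scaleRoots, Polynomial.eval_map, Polynomial.eval₂_at_apply, h1,
        map_zero]
      rw [hp.leadingCoeff, map_one]
      exact one_ne_zero
    have hσ : algebraMap B (B ⊗[A] A') (s : B) ∈ nonZeroDivisors (B ⊗[A] A') := by
      rw [mem_nonZeroDivisors_iff_right]
      intro z hz
      apply hjinj
      have := congrArg j hz
      rw [map_mul, AlgHom.commutes, map_zero] at this
      rw [map_zero]
      exact (hsunit.mul_left_eq_zero).mp this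
    obtain ⟨z, hz⟩ := dvd_of_eval_scaleRoots_eq_zero (fun n hn => hC n hn) _ _ hσ
      (p.map (algebraMap B (B ⊗[A] A'))) (hp.map _) h3
    refine ⟨z, ?_⟩
    have := congrArg j hz
    rw [map_mul, AlgHom.commutes, AlgHom.commutes, ← hbs] at this
    have h4 : (t - j z) * algebraMap B T (s : B) = 0 := by
      rw [sub_mul, this]; ring
    have := (hsunit.mul_left_eq_zero).mp h4
    exact (sub_eq_zero.mp this).symm
  let j' : B ⊗[A] A' →ₐ[B] integralClosure B T := j.codRestrict _ himg
  have hj'bij : Function.Bijective j' := by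
    constructor
    · intro x y hxy
      apply hjinj
      exact congrArg Subtype.val hxy
    · rintro ⟨t, ht⟩
      obtain ⟨z, hz⟩ := hsurj t ht
      exact ⟨z, Subtype.ext hz⟩
  let e : (B ⊗[A] A') ≃ₗ[B] integralClosure B T := LinearEquiv.ofBijective j'.toLinearMap hj'bij
  have hmap : (LinearMap.range (Algebra.linearMap B (B ⊗[A] A'))).map (e : _ →ₗ[B] _) =
      LinearMap.range (Algebra.linearMap B (integralClosure B T)) := by
    rw [← LinearMap.range_comp]
    congr 1
    apply LinearMap.ext
    intro b
    show j' (algebraMap B (B ⊗[A] A') b) = algebraMap B (integralClosure B T) b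
    exact j'.commutes b
  rw [← (Submodule.Quotient.equiv _ _ e hmap).length_eq]
  exact length_quot_range_eq hm hfl

end Assembly

end Groth.Agent.Lib.Helper39.DeltaBC
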