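import Mathlib
import Groth.Prelude.Def_Curv2
import Groth.Agent.Lib.Helper39.DeltaBC.Main
import Groth.Agent.Lib.Helper39.NormTensor.Inter

set_option autoImplicit false
set_option linter.style.haveILetI false
set_option linter.unusedSectionVars false
universe u

open TensorProduct

namespace Groth.Agent.Lib.Helper39.DeltaBC

section LengthMono

variable {A B : Type*} [CommRing A] [CommRing B] [Algebra A B] [Module.FaithfullyFlat A B]

/-- length can only grow under faithfully flat base change -/
theorem length_le_length_baseChange (M : Type*) [AddCommGroup M] [Module A M] :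
    Module.length A M ≤ Module.length B (B ⊗[A] M) := by
  rw [← WithBot.coe_le_coe, Module.coe_length, Module.coe_length]
  let f : Submodule A M → Submodule B (B ⊗[A] M) :=
    fun N => LinearMap.range (N.subtype.baseChange B)
  have hmono : Monotone f := by
    intro N₁ N₂ h
    rintro _ ⟨z, rfl⟩
    refine ⟨(Submodule.inclusion h).baseChange B z, ?_⟩
    rw [← LinearMap.comp_apply, ← LinearMap.baseChange_comp]
    rfl
  refine Order.krullDim_le_of_strictMono f ?_
  intro N₁ N₂ hlt
  refine lt_of_le_of_ne (hmono hlt.le) ?_
  intro heq
  apply hlt.not_ge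
  -- the composite `N₂ → M → M / N₁` is zero after base change
  let g : N₂ →ₗ[A] M ⧸ N₁ := N₁.mkQ.comp N₂.subtype
  have hg : g = 0 := by
    rw [Module.FaithfullyFlat.zero_iff_lTensor_zero A B]
    apply LinearMap.ext
    intro z
    have hz : (N₂.subtype.baseChange B) z ∈ f N₁ := by
      rw [heq]
      exact ⟨z, rfl⟩
    obtain ⟨w, hw⟩ := hz
    have h1 : LinearMap.lTensor B g z = (N₁.mkQ.baseChange B) ((N₂.subtype.baseChange B) z) := by
      rw [← LinearMap.comp_apply, ← LinearMap.baseChange_comp]
      rfl
    rw [h1, ← hw, ← LinearMap.comp_apply, ← LinearMap.baseChange_comp]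
    have : N₁.mkQ.comp N₁.subtype = 0 := by
      ext x
      simp
    rw [this, LinearMap.baseChange_zero]
    rfl
  intro x hx
  have := LinearMap.congr_fun hg ⟨x, hx⟩
  simpa [g] using this

end LengthMono

section QuotRange

variable {A B A' : Type*} [CommRing A] [CommRing B] [CommRing A'] [Algebra A B] [Algebra A A']

theorem length_quot_range_eq_baseChange :
    Module.length B ((B ⊗[A] A') ⧸ LinearMap.range (Algebra.linearMap B (B ⊗[A] A'))) =
      Module.length B (B ⊗[A] (A' ⧸ LinearMap.range (Algebra.linearMap A A'))) := by
  set R0 := LinearMap.range (Algebra.linearMap A A') with hR0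
  let g : B ⊗[A] A' →ₗ[B] B ⊗[A] (A' ⧸ R0) := R0.mkQ.baseChange B
  have hgs : Function.Surjective g :=
    LinearMap.lTensor_surjective _ (Submodule.mkQ_surjective _)
  have hex : Function.Exact ((Algebra.linearMap A A').baseChange B) g :=
    lTensor_exact B (LinearMap.exact_map_mkQ_range (Algebra.linearMap A A'))
      (Submodule.mkQ_surjective _)
  have hker : LinearMap.ker g = LinearMap.range (Algebra.linearMap B (B ⊗[A] A')) := by
    rw [← range_baseChange_linearMap]
    exact LinearMap.exact_iff.mp hex
  rw [← hker, (LinearMap.quotKerEquivOfSurjective g hgs).length_eq]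

end QuotRange

section DeltaMono

open Groth.Agent.Lib.Helper39.NormTensor

variable (A B : Type u) [CommRing A] [CommRing B] [Algebra A B] [Module.FaithfullyFlat A B]

theorem algebraMapSubmonoid_nonZeroDivisors_le :
    Algebra.algebraMapSubmonoid B (nonZeroDivisors A) ≤ nonZeroDivisors B := by
  rintro _ ⟨a, ha, rfl⟩
  have hreg : IsSMulRegular B a := Module.Flat.isSMulRegular_of_nonZeroDivisors ha
  rw [mem_nonZeroDivisors_iff_right]
  intro b hb
  apply hreg
  show a • b = a • 0
  rw [smul_zero, Algebra.smul_def, mul_comm]
  exact hb

/-- the canonical injective `B`-algebra map `B ⊗_A A' → Q(B)`, for `A'` the integral closure of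
`A` in `Q(A)` -/
noncomputable def tensorToFrac :
    B ⊗[A] ↥(integralClosure A (FractionRing A)) →ₐ[B] FractionRing B :=
  let Φ : B ⊗[A] FractionRing A →+* FractionRing B :=
    toFrac (Algebra.algebraMapSubmonoid B (nonZeroDivisors A))
      (algebraMapSubmonoid_nonZeroDivisors_le A B) (B ⊗[A] FractionRing A)
  let ΦB : B ⊗[A] FractionRing A →ₐ[B] FractionRing B :=
    { Φ with
      commutes' := fun b => toFrac_algebraMap _ _ _ b }
  ΦB.comp (Algebra.TensorProduct.map (AlgHom.id B B) (integralClosure A (FractionRing A)).val)

theorem tensorToFrac_injective : Function.Injective (tensorToFrac A B) := by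
  unfold tensorToFrac
  have h1 : Function.Injective (Algebra.TensorProduct.map (AlgHom.id B B)
      (integralClosure A (FractionRing A)).val) := by
    have : Function.Injective ((integralClosure A (FractionRing A)).val.toLinearMap.lTensor B) :=
      Module.Flat.lTensor_preserves_injective_linearMap _ Subtype.val_injective
    intro x y hxy
    exact this hxy
  intro x y hxy
  apply h1
  exact toFrac_injective (Algebra.algebraMapSubmonoid B (nonZeroDivisors A))
    (algebraMapSubmonoid_nonZeroDivisors_le A B) (B ⊗[A] FractionRing A) hxy

theorem tensorToFrac_isIntegral (z : B ⊗[A] ↥(integralClosure A (FractionRing A))) :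
    IsIntegral B (tensorToFrac A B z) := by
  haveI : Algebra.IsIntegral A ↥(integralClosure A (FractionRing A)) :=
    ⟨fun y => integralClosure.isIntegral y⟩
  haveI : Algebra.IsIntegral B (B ⊗[A] ↥(integralClosure A (FractionRing A))) := inferInstance
  exact (Algebra.IsIntegral.isIntegral (R := B) z).map (tensorToFrac A B)

/-- `B ⊗_A A' → B'` -/
noncomputable def tensorToClosure :
    B ⊗[A] ↥(integralClosure A (FractionRing A)) →ₐ[B] ↥(integralClosure B (FractionRing B)) :=
  (tensorToFrac A B).codRestrict (integralClosure B (FractionRing B)) (tensorToFrac_isIntegral A B)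

theorem tensorToClosure_injective : Function.Injective (tensorToClosure A B) := by
  intro x y hxy
  apply tensorToFrac_injective A B
  exact congrArg Subtype.val hxy

/-- **The δ-invariant can only grow under faithfully flat ring maps.** -/
theorem deltaInv_le_of_faithfullyFlat : Curv2.deltaInv A ≤ Curv2.deltaInv B := by
  unfold Curv2.deltaInv
  let IA := integralClosure A (FractionRing A)
  let IB := integralClosure B (FractionRing B)
  let RA := LinearMap.range (Algebra.linearMap A IA)
  let RB := LinearMap.range (Algebra.linearMap B IB)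
  let RT := LinearMap.range (Algebra.linearMap B (B ⊗[A] IA))
  calc Module.length A (IA ⧸ RA) ≤ Module.length B (B ⊗[A] (IA ⧸ RA)) :=
        length_le_length_baseChange _
    _ = Module.length B ((B ⊗[A] IA) ⧸ RT) := (length_quot_range_eq_baseChange).symm
    _ ≤ Module.length B (IB ⧸ RB) := by
        let Θ : B ⊗[A] IA →ₗ[B] IB := (tensorToClosure A B).toLinearMap
        have hle : RT ≤ RB.comap Θ := by
          rintro _ ⟨b, rfl⟩
          exact ⟨b, ((tensorToClosure A B).commutes b).symm⟩
        let Θq : ((B ⊗[A] IA) ⧸ RT) →ₗ[B] (IB ⧸ RB) := Submodule.mapQ RT RB Θ hle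
        apply Module.length_le_of_injective Θq
        rw [← LinearMap.ker_eq_bot]
        show LinearMap.ker (Submodule.liftQ RT (RB.mkQ.comp Θ) _) = ⊥
        rw [Submodule.ker_liftQ_eq_bot']
        apply le_antisymm (by rw [LinearMap.ker_comp, Submodule.ker_mkQ]; exact hle)
        intro z hz
        rw [LinearMap.ker_comp, Submodule.ker_mkQ, Submodule.mem_comap] at hz
        obtain ⟨b, hb⟩ := hz
        have : z = algebraMap B (B ⊗[A] IA) b := by
          apply tensorToClosure_injective A B
          rw [AlgHom.commutes]
          exact hb.symm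
        exact ⟨b, this.symm⟩

end DeltaMono

end Groth.Agent.Lib.Helper39.DeltaBC
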