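import Mathlib

set_option linter.style.haveILetI false

namespace Groth.Agent.Lib.Helper39.DeltaBC


open TensorProduct IsLocalRing

section R1
variable {A B k' : Type*} [CommRing A] [CommRing B] [IsLocalRing A] [IsLocalRing B] [Algebra A B]
  [CommRing k'] [Algebra A k']

omit [IsLocalRing B] in
theorem tmul_eq_zero_of_mem_map (hkill : ∀ a ∈ maximalIdeal A, algebraMap A k' a = 0)
    (x : B) (hx : x ∈ (maximalIdeal A).map (algebraMap A B)) (y : k') :
    x ⊗ₜ[A] y = 0 := by
  induction hx using Submodule.span_induction with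
  | mem x hx =>
    obtain ⟨a, ha, rfl⟩ := hx
    rw [Algebra.algebraMap_eq_smul_one, TensorProduct.smul_tmul, Algebra.smul_def, hkill a ha,
      zero_mul, TensorProduct.tmul_zero]
  | zero => exact TensorProduct.zero_tmul _ _
  | add x x' _ _ hx hx' => rw [TensorProduct.add_tmul, hx, hx', add_zero]
  | smul b x _ hx =>
    rw [smul_eq_mul, ← smul_eq_mul, ← TensorProduct.smul_tmul', hx, smul_zero]

theorem isReduced_tensor_of_residue_surjective (hk' : IsField k')
    (hm : (maximalIdeal A).map (algebraMap A B) = maximalIdeal B)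
    (hres : ∀ x : B, ∃ r : A, x - algebraMap A B r ∈ maximalIdeal B)
    (hkill : ∀ a ∈ maximalIdeal A, algebraMap A k' a = 0) :
    IsReduced (B ⊗[A] k') := by
  let _ : Field k' := hk'.toField
  have hsurj : ∀ z : B ⊗[A] k', ∃ y : k', z = 1 ⊗ₜ[A] y := by
    intro z
    induction z using TensorProduct.induction_on with
    | zero => exact ⟨0, (TensorProduct.tmul_zero _ _).symm⟩
    | tmul b y =>
      obtain ⟨r, hr⟩ := hres b
      rw [← hm] at hr
      refine ⟨r • y, ?_⟩
      have h1 := tmul_eq_zero_of_mem_map hkill _ hr y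
      rw [TensorProduct.sub_tmul, sub_eq_zero] at h1
      rw [h1, Algebra.algebraMap_eq_smul_one, TensorProduct.smul_tmul]
    | add z w hz hw =>
      obtain ⟨y1, rfl⟩ := hz
      obtain ⟨y2, rfl⟩ := hw
      exact ⟨y1 + y2, (TensorProduct.tmul_add _ _ _).symm⟩
  refine ⟨fun z hz => ?_⟩
  obtain ⟨y, rfl⟩ := hsurj z
  obtain ⟨n, hn⟩ := hz
  let ι : k' →+* B ⊗[A] k' := (Algebra.TensorProduct.includeRight : k' →ₐ[A] B ⊗[A] k').toRingHom
  have hι : ∀ w : k', ι w = 1 ⊗ₜ[A] w := fun w => rfl
  rw [← hι] at hn ⊢
  rw [← map_pow] at hn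
  rcases Ideal.eq_bot_or_top (RingHom.ker ι) with h | h
  · have : y ^ n ∈ RingHom.ker ι := hn
    rw [h, Ideal.mem_bot] at this
    rw [eq_zero_of_pow_eq_zero this, map_zero]
  · have h1 : (1 : k') ∈ RingHom.ker ι := by rw [h]; trivial
    rw [RingHom.mem_ker, map_one] at h1
    calc ι y = ι y * 1 := (mul_one _).symm
      _ = 0 := by rw [h1, mul_zero]

end R1



open TensorProduct IsLocalRing

section F1
variable {κ k' L : Type*} [Field κ] [Field k'] [Algebra κ k'] [Field L] [Algebra κ L]

theorem isReduced_tensor_of_finite_isSeparable [FiniteDimensional κ L] [Algebra.IsSeparable κ L] :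
    IsReduced (k' ⊗[κ] L) := by
  haveI : Algebra.FormallyUnramified κ L := Algebra.FormallyUnramified.of_isSeparable κ L
  haveI : Algebra.FormallyUnramified k' (k' ⊗[κ] L) := inferInstance
  exact Algebra.FormallyUnramified.isReduced_of_field k' (k' ⊗[κ] L)

theorem isReduced_tensor_of_isSeparable [Algebra.IsSeparable κ L] :
    IsReduced (k' ⊗[κ] L) := by
  apply IsReduced.tensorProduct_of_flat_of_forall_fg
  intro D hD
  obtain ⟨S, hS⟩ := hD
  let E := IntermediateField.adjoin κ (S : Set L)
  have hfd : FiniteDimensional κ E :=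
    IntermediateField.finiteDimensional_adjoin
      (fun x _ => (Algebra.IsSeparable.isSeparable κ x).isIntegral)
  have hsep : Algebra.IsSeparable κ E := inferInstance
  have hle : D ≤ E.toSubalgebra := by
    rw [← hS]
    exact IntermediateField.algebra_adjoin_le_adjoin κ _
  have hred : IsReduced (k' ⊗[κ] E) := isReduced_tensor_of_finite_isSeparable
  have hinj : Function.Injective
      (Algebra.TensorProduct.map (AlgHom.id κ k') (Subalgebra.inclusion hle)) :=
    Module.Flat.lTensor_preserves_injective_linearMap _ (Subalgebra.inclusion_injective hle)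
  exact isReduced_of_injective
    (Algebra.TensorProduct.map (AlgHom.id κ k') (Subalgebra.inclusion hle)) hinj

end F1



open TensorProduct IsLocalRing

section R2

theorem isReduced_tensor_of_isSeparable' {κ k' L : Type*} [Field κ] [CommRing k'] [CommRing L]
    [Algebra κ k'] [Algebra κ L] (hk' : IsField k') (hL : IsField L) [Algebra.IsSeparable κ L] :
    IsReduced (k' ⊗[κ] L) := by
  let _ : Field k' := hk'.toField
  let _ : Field L := hL.toField
  exact isReduced_tensor_of_isSeparable

variable {A B k' : Type*} [CommRing A] [CommRing B] [IsLocalRing A] [IsLocalRing B] [Algebra A B]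
  [IsLocalHom (algebraMap A B)] [CommRing k'] [Algebra A k']

theorem isReduced_tensor_of_residue_separable (hk' : IsField k')
    (hm : (maximalIdeal A).map (algebraMap A B) = maximalIdeal B)
    (hsep : Algebra.IsSeparable (ResidueField A) (ResidueField B))
    (hkill : ∀ a ∈ maximalIdeal A, algebraMap A k' a = 0) :
    IsReduced (B ⊗[A] k') := by
  letI : Field (A ⧸ maximalIdeal A) := Ideal.Quotient.field _
  letI : Algebra (A ⧸ maximalIdeal A) k' :=
    (Ideal.Quotient.lift (maximalIdeal A) (algebraMap A k') hkill).toAlgebra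
  haveI : IsScalarTower A (A ⧸ maximalIdeal A) k' := IsScalarTower.of_algebraMap_eq (fun a => rfl)
  have hImax : ((maximalIdeal A).map (algebraMap A B)).IsMaximal := hm ▸ inferInstance
  have hL : IsField (B ⧸ (maximalIdeal A).map (algebraMap A B)) :=
    (Ideal.Quotient.maximal_ideal_iff_isField_quotient _).mp hImax
  letI : Algebra (A ⧸ maximalIdeal A) (B ⧸ maximalIdeal B) :=
    (inferInstance : Algebra (ResidueField A) (ResidueField B))
  let e5 : (B ⧸ (maximalIdeal A).map (algebraMap A B)) ≃ₐ[A ⧸ maximalIdeal A]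
      (B ⧸ maximalIdeal B) :=
    AlgEquiv.ofRingEquiv (f := Ideal.quotEquivOfEq hm) (by
      intro x
      obtain ⟨a, rfl⟩ := Ideal.Quotient.mk_surjective x
      rfl)
  have hsep' : Algebra.IsSeparable (A ⧸ maximalIdeal A) (B ⧸ maximalIdeal B) := hsep
  have hsepL : Algebra.IsSeparable (A ⧸ maximalIdeal A)
      (B ⧸ (maximalIdeal A).map (algebraMap A B)) :=
    AlgEquiv.Algebra.isSeparable e5.symm
  have h1 : IsReduced (k' ⊗[A ⧸ maximalIdeal A] (B ⧸ (maximalIdeal A).map (algebraMap A B))) :=
    isReduced_tensor_of_isSeparable' hk' hL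
  let e3 := Algebra.TensorProduct.quotIdealMapEquivQuotTensor B (maximalIdeal A)
  have h2 : IsReduced (k' ⊗[A ⧸ maximalIdeal A] ((A ⧸ maximalIdeal A) ⊗[A] B)) :=
    isReduced_of_injective
      (Algebra.TensorProduct.congr (AlgEquiv.refl (R := A ⧸ maximalIdeal A) (A₁ := k'))
        e3.symm).toAlgHom
      (Algebra.TensorProduct.congr (AlgEquiv.refl (R := A ⧸ maximalIdeal A) (A₁ := k'))
        e3.symm).injective
  let e2 := Algebra.TensorProduct.cancelBaseChange A (A ⧸ maximalIdeal A) (A ⧸ maximalIdeal A)
    k' B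
  have h3 : IsReduced (k' ⊗[A] B) := isReduced_of_injective e2.symm.toAlgHom e2.symm.injective
  exact isReduced_of_injective (Algebra.TensorProduct.comm A B k').toAlgHom
    (Algebra.TensorProduct.comm A B k').injective

end R2


end Groth.Agent.Lib.Helper39.DeltaBC
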